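import Groth.Agent.Lib.CechShRes98.Basic
import Groth.Agent.Lib.DerivedOX.RpushAcyclic
import Groth.Agent.Lib.QCoh.Pushforward
import Groth.Agent.Lib.BettiExact.QCohInc
import Groth.Agent.H83.DQCohPush.Acyclic

/-!
# The relative Cech complex computes the derived direct image
-/

set_option autoImplicit false
set_option linter.style.haveILetI false
set_option linter.unusedSectionVars false

universe u

open CategoryTheory CategoryTheory.Limits AlgebraicGeometry Opposite

attribute [local instance] HasDerivedCategory.standard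

namespace Groth.Agent.H83.RelCech

open Groth.Agent.Lib Groth.Agent.Lib.DerivedOX

section General

universe v v' u₁ u₂

variable {A : Type u₁} [Category.{v} A] [Abelian A] {B : Type u₂} [Category.{v'} B] [Abelian B]
  (F : A ⥤ B) [F.Additive] (K : CochainComplex A ℕ)

omit [Abelian A] [Abelian B] in
lemma comm_aux {A' : Type u₁} [Category.{v} A'] {B' : Type u₂} [Category.{v'} B'] (G : A' ⥤ B')
    {x y x' y' : A'} {p q : B'} (a : x ≅ x') (a' : y ≅ y') (d : x' ⟶ y') (b : p ≅ G.obj x')
    (b' : q ≅ G.obj y') :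
    (G.mapIso a ≪≫ b.symm).hom ≫ (b.hom ≫ G.map d ≫ b'.inv) =
      G.map (a.hom ≫ d ≫ a'.inv) ≫ (G.mapIso a' ≪≫ b'.symm).hom := by
  simp

/-- Additive functors commute with extension by zero. -/
noncomputable def mapExtendIso :
    (F.mapHomologicalComplex (ComplexShape.up ℤ)).obj (K.extend ComplexShape.embeddingUpNat) ≅
      ((F.mapHomologicalComplex (ComplexShape.up ℕ)).obj K).extend ComplexShape.embeddingUpNat :=
  HomologicalComplex.Hom.isoOfComponents
    (fun n => match n with
      | Int.ofNat i => F.mapIso (K.extendXIso ComplexShape.embeddingUpNat (i := i) (by simp)) ≪≫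
          (((F.mapHomologicalComplex (ComplexShape.up ℕ)).obj K).extendXIso
            ComplexShape.embeddingUpNat (i := i) (by simp)).symm
      | Int.negSucc i => IsZero.iso
          (F.map_isZero (K.isZero_extend_X _ _ (fun k hk => by simp at hk)))
          (HomologicalComplex.isZero_extend_X _ _ _ (fun k hk => by simp at hk)))
    (fun i j hij => by
      obtain rfl : i + 1 = j := hij
      match i with
      | Int.ofNat i =>
        have hi : ComplexShape.embeddingUpNat.f i = Int.ofNat i := by simp
        have hj : ComplexShape.embeddingUpNat.f (i + 1) = Int.ofNat (i + 1) := by simp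
        change (F.mapIso (K.extendXIso ComplexShape.embeddingUpNat hi) ≪≫
            (((F.mapHomologicalComplex (ComplexShape.up ℕ)).obj K).extendXIso
              ComplexShape.embeddingUpNat hi).symm).hom ≫ HomologicalComplex.d _ _ (Int.ofNat (i + 1)) =
          F.map (HomologicalComplex.d _ _ (Int.ofNat (i + 1))) ≫
            (F.mapIso (K.extendXIso ComplexShape.embeddingUpNat hj) ≪≫
            (((F.mapHomologicalComplex (ComplexShape.up ℕ)).obj K).extendXIso
              ComplexShape.embeddingUpNat hj).symm).hom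
        rw [HomologicalComplex.extend_d_eq _ _ hi hj, HomologicalComplex.extend_d_eq _ _ hi hj]
        exact comm_aux F _ _ _ _ _
      | Int.negSucc i =>
        exact (F.map_isZero (K.isZero_extend_X _ _ (fun k hk => by simp at hk))).eq_of_src _ _)

/-- A finite product of objects killed by an additive functor is killed. -/
lemma isZero_map_pi {J : Type u} [Finite J] (M : J → A) [HasProduct M]
    (h : ∀ j, IsZero (F.obj (M j))) : IsZero (F.obj (∏ᶜ M)) := by
  obtain ⟨n, ⟨e⟩⟩ := Finite.exists_equiv_fin J
  haveI : PreservesFiniteProducts F := inferInstance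
  haveI : PreservesLimit (Discrete.functor M) F := by
    haveI : PreservesLimitsOfShape (Discrete J) F :=
      preservesLimitsOfShape_of_equiv (Discrete.equivalence e.symm) F
    infer_instance
  refine (IsZero.iff_id_eq_zero _).2 ((cancel_mono (piComparison F M)).1 ?_)
  exact limit.hom_ext fun j => (h j.as).eq_of_tgt _ _

end General

variable {X S : Scheme.{u}} {ι : Type u} (U : ι → X.Opens) (F : X.Modules)

/-- The coaugmentation as a map of complexes. -/
noncomputable def augMap : (CochainComplex.single₀ X.Modules).obj F ⟶ (CechOX.cechSh U).obj F :=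
  (CochainComplex.fromSingle₀Equiv _ _).symm
    ⟨CechOX.cechShAug U F, CechShRes98.Basic.aug_d U F⟩

theorem quasiIso_augMap (hU : ⨆ i, U i = ⊤) : QuasiIso (augMap U F) := ⟨fun n => by
  cases n with
  | succ n =>
    rw [quasiIsoAt_iff_exactAt _ _ (CochainComplex.exactAt_succ_single_obj _ _),
      HomologicalComplex.exactAt_iff_isZero_homology]
    exact CechShRes98.Basic.isZero_homology F hU n
  | zero =>
    rw [CochainComplex.quasiIsoAt₀_iff, ShortComplex.quasiIso_iff_of_zeros]
    · refine (ShortComplex.exact_and_mono_f_iff_of_iso ?_).1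
        ⟨CechShRes98.Basic.exact_aug F hU, CechShRes98.Basic.mono_aug F hU⟩
      refine ShortComplex.isoMk (Iso.refl _) (Iso.refl _) (Iso.refl _) ?_ ?_
      · change (Iso.refl _).hom ≫ (augMap U F).f 0 = _
        erw [CochainComplex.fromSingle₀Equiv_symm_apply_f_zero]
        exact (Category.id_comp _).trans (Category.comp_id _).symm
      · exact (Category.id_comp _).trans (Category.comp_id _).symm
    all_goals first | rfl | exact HomologicalComplex.shape _ _ _ (by simp)⟩

theorem exists_iso_cechShZ (hU : ⨆ i, U i = ⊤) :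
    Nonempty (DCoh.inD X F ≅ DCoh.toD X (CechOX.cechShZ U F)) := by
  haveI := quasiIso_augMap U F hU
  haveI : QuasiIso (HomologicalComplex.extendMap (augMap U F) ComplexShape.embeddingUpNat) :=
    (HomologicalComplex.quasiIso_extendMap_iff _ _).2 inferInstance
  haveI : IsIso (DerivedCategory.Q.map
      (HomologicalComplex.extendMap (augMap U F) ComplexShape.embeddingUpNat)) :=
    (DerivedCategory.isIso_Q_map_iff_quasiIso _ _).2 inferInstance
  exact ⟨(DerivedCategory.singleFunctorIsoCompQ X.Modules 0).app F ≪≫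
    DerivedCategory.Q.mapIso (HomologicalComplex.extendSingleIso ComplexShape.embeddingUpNat F
      (i := 0) (i' := (0 : ℤ)) (by simp)).symm ≪≫
    asIso (DerivedCategory.Q.map
      (HomologicalComplex.extendMap (augMap U F) ComplexShape.embeddingUpNat))⟩

variable [Finite ι]

section Gen

variable (hι : ∀ (p : ℕ) (i : Fin (p + 1) → ι), IsAffineHom (∏ᶜ (U ∘ i) : X.Opens).ι)
variable [hq : F.IsQuasicoherent]

include hι in
lemma isQCoh_restr {p : ℕ} (i : Fin (p + 1) → ι) :
    ((CechOX.pushRestr (∏ᶜ (U ∘ i) : X.Opens)).obj F).IsQuasicoherent := by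
  haveI := hι p i
  haveI : (F.restrict (∏ᶜ (U ∘ i) : X.Opens).ι).IsQuasicoherent := inferInstance
  exact QCoh.Pushforward.isQCoh_pushforward (f := (∏ᶜ (U ∘ i) : X.Opens).ι)
    (M := F.restrict (∏ᶜ (U ∘ i) : X.Opens).ι)

include hι in
lemma isQCoh_term (p : ℕ) : (((CechOX.cechSh U).obj F).X p).IsQuasicoherent :=
  (QCohCat.isQCoh X).prop_of_isLimit_fan (J := Fin (p + 1) → ι)
    (f := fun i => (CechOX.pushRestr (∏ᶜ (U ∘ i) : X.Opens)).obj F)
    (productIsProduct _) (fun i => isQCoh_restr U F hι i)

variable (f : X ⟶ S) (hιf : ∀ (p : ℕ) (i : Fin (p + 1) → ι), IsAffineHom ((∏ᶜ (U ∘ i) : X.Opens).ι ≫ f))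

include hι hιf in
lemma isZero_R_term (p k : ℕ) (hk : 0 < k) :
    IsZero (((Scheme.Modules.pushforward f).rightDerived k).obj (((CechOX.cechSh U).obj F).X p)) := by
  obtain ⟨m, rfl⟩ : ∃ m, k = m + 1 := ⟨k - 1, by omega⟩
  refine isZero_map_pi ((Scheme.Modules.pushforward f).rightDerived (m + 1))
    (fun i : Fin (p + 1) → ι => (CechOX.pushRestr (∏ᶜ (U ∘ i) : X.Opens)).obj F) fun i => ?_
  haveI := hι p i
  let W : X.Opens := ∏ᶜ (U ∘ i)
  haveI : (F.restrict W.ι).IsQuasicoherent := inferInstance
  haveI := hιf p i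
  obtain ⟨e⟩ := SchColim29.CohPush.nonempty_rightDerived_push_iso W.ι f (F.restrict W.ι) (m + 1)
  exact IsZero.of_iso (DQCohPush.isZero_rightDerived_affine (W.ι ≫ f) _ m) e

include hι hιf in
/-- The relative Cech complex of a covering by opens affine over both schemes computes `Rf_*`. -/
theorem main_gen [QuasiCompact f] [QuasiSeparated f] (hcov : ⨆ i, U i = ⊤) [DCoh.HasRpush f] :
    (∀ p : ℕ, Coh.IsQCoh (((CechOX.relCech U f).obj F).X p)) ∧
      Nonempty (DCoh.toD S (CechOX.relCechZ U f F) ≅ (DCoh.Rpush f).obj (DCoh.inD X F)) := by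
  have hterm := isQCoh_term U F hι
  refine ⟨fun p => ?_, ?_⟩
  · haveI := hterm p
    exact QCoh.Pushforward.isQCoh_pushforward (f := f) (M := ((CechOX.cechSh U).obj F).X p)
  · obtain ⟨e⟩ := exists_iso_cechShZ U F hcov
    let Z := CechOX.cechShZ U F
    have hqc : ∀ n, WayOut.Scheme.qc X (Z.X n) := fun n => by
      match n with
      | Int.ofNat i =>
        exact (WayOut.Scheme.qc X).prop_of_iso
          (((CechOX.cechSh U).obj F).extendXIso ComplexShape.embeddingUpNat (i := i) (by simp)).symm
          (hterm i)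
      | Int.negSucc i =>
        exact RpushQCoh.qc_of_isZero (HomologicalComplex.isZero_extend_X _ _ _ (fun k hk => by simp at hk))
    have hac : ∀ (n : ℤ) (k : ℕ), 0 < k →
        IsZero (((Scheme.Modules.pushforward f).rightDerived k).obj (Z.X n)) := fun n k hk => by
      match n with
      | Int.ofNat i =>
        exact (isZero_R_term U F hι f hιf i k hk).of_iso
          (((Scheme.Modules.pushforward f).rightDerived k).mapIso
            (((CechOX.cechSh U).obj F).extendXIso ComplexShape.embeddingUpNat (i := i) (by simp)))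
      | Int.negSucc i =>
        exact Functor.map_isZero _
          (HomologicalComplex.isZero_extend_X _ _ _ (fun k hk => by simp at hk))
    haveI := RpushAcyclic.isIso_unit_of_acyclic f Z hqc hac
    exact ⟨(DerivedCategory.Q.mapIso (mapExtendIso (Scheme.Modules.pushforward f)
        ((CechOX.cechSh U).obj F))).symm ≪≫
      ((DerivedCategory.quotientCompQhIso S.Modules).app _).symm ≪≫
      DerivedCategory.Qh.mapIso
        (((Scheme.Modules.pushforward f).mapHomotopyCategoryFactors (ComplexShape.up ℤ)).app Z).symm ≪≫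
      asIso (((DCoh.pushKh f).totalRightDerivedUnit DerivedCategory.Qh
        (HomotopyCategory.quasiIso X.Modules (ComplexShape.up ℤ))).app
        ((HomotopyCategory.quotient X.Modules (ComplexShape.up ℤ)).obj Z)) ≪≫
      (DCoh.Rpush f).mapIso ((DerivedCategory.quotientCompQhIso X.Modules).app Z ≪≫ e.symm)⟩

end Gen

variable [IsAffineHom (pullback.diagonal (terminal.from X))]

lemma isAffineOpen_prod (hU : ∀ i, IsAffineOpen (U i)) {p : ℕ} (i : Fin (p + 1) → ι) :
    IsAffineOpen (∏ᶜ (U ∘ i) : X.Opens) := by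
  rw [Cech.Complex.pi_eq_inter]
  exact IsAffineOpen.iInf fun k => hU (i k)

lemma isAffineHom_ι (hU : ∀ i, IsAffineOpen (U i)) {p : ℕ} (i : Fin (p + 1) → ι) :
    IsAffineHom (∏ᶜ (U ∘ i) : X.Opens).ι :=
  haveI : IsAffine ((∏ᶜ (U ∘ i) : X.Opens) : Scheme.{u}) := isAffineOpen_prod U hU i
  DQCohPush.isAffineHom_of_affine_diag _ fun _ _ h h' => h.inf h'

lemma isAffineHom_ι_comp (f : X ⟶ S) [IsAffineHom (pullback.diagonal (terminal.from S))]
    (hU : ∀ i, IsAffineOpen (U i)) {p : ℕ} (i : Fin (p + 1) → ι) :
    IsAffineHom ((∏ᶜ (U ∘ i) : X.Opens).ι ≫ f) :=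
  haveI : IsAffine ((∏ᶜ (U ∘ i) : X.Opens) : Scheme.{u}) := isAffineOpen_prod U hU i
  DQCohPush.isAffineHom_of_affine_diag _ fun _ _ h h' => h.inf h'

lemma qcqs (f : X ⟶ S) [CompactSpace X] [IsAffineHom (pullback.diagonal (terminal.from S))] :
    QuasiCompact f ∧ QuasiSeparated f := by
  haveI : QuasiSeparatedSpace X :=
    (quasiSeparatedSpace_iff_forall_affineOpens).2 fun V W => (V.2.inf W.2).isCompact
  haveI : QuasiSeparatedSpace S :=
    (quasiSeparatedSpace_iff_forall_affineOpens).2 fun V W => (V.2.inf W.2).isCompact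
  exact ⟨inferInstance, inferInstance⟩

theorem main (f : X ⟶ S) [hq : F.IsQuasicoherent]
    [IsAffineHom (pullback.diagonal (terminal.from S))] [CompactSpace X]
    (hU : ∀ i, IsAffineOpen (U i)) (hcov : ⨆ i, U i = ⊤) [DCoh.HasRpush f] :
    (∀ p : ℕ, Coh.IsQCoh (((CechOX.relCech U f).obj F).X p)) ∧
      Nonempty (DCoh.toD S (CechOX.relCechZ U f F) ≅ (DCoh.Rpush f).obj (DCoh.inD X F)) := by
  obtain ⟨_, _⟩ := qcqs f
  exact main_gen U F (fun _ i => isAffineHom_ι U hU i) f (fun _ i => isAffineHom_ι_comp U f hU i) hcov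

end Groth.Agent.H83.RelCech
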